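import Groth.Agent.EGA43.InjFibre.Scheme
import Groth.Agent.EGA43.Cons.FibreCritScheme
import Groth.Agent.EGA43.Cons.FibFlatLocus

/-!
# Fibrewise flatness descends along a base change
-/

set_option autoImplicit false
set_option backward.isDefEq.respectTransparency false
set_option linter.style.haveILetI false

universe u

open CategoryTheory CategoryTheory.Limits AlgebraicGeometry TopologicalSpace TensorProduct

namespace Groth.Agent.FlatMorRel

open Groth.Agent EGA43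

set_option maxHeartbeats 2000000 in
theorem isFibFlatAt_of_baseChange {X Y S X' Y' S' : Scheme.{u}} (f : X ⟶ Y) (g : Y ⟶ S) (h : S' ⟶ S)
    (gY : Y' ⟶ Y) (g' : Y' ⟶ S') (hY : IsPullback gY g' g h) (gX : X' ⟶ X) (f' : X' ⟶ Y')
    (hX : IsPullback gX (f' ≫ g') (f ≫ g) h) (w : gX ≫ f = f' ≫ gY) (F : X.Modules) [Coh.IsQCoh F]
    (x' : X') (hfib : Cons.IsFibFlatAt f' g' ((Scheme.Modules.pullback gX).obj F) x') :
    Cons.IsFibFlatAt f g F (gX x') := by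
  haveI := InjFibre.isQCoh_pullback gX F
  have hw : f (gX x') = gY (f' x') := congrArg (fun φ : X' ⟶ Y => φ x') w
  have hw' : g (gY (f' x')) = h (g' (f' x')) := congrArg (fun φ : Y' ⟶ S => φ (f' x')) hY.w
  obtain ⟨W, hW, hsW, -⟩ := exists_isAffineOpen_mem_and_subset (x := g (f (gX x'))) (U := ⊤) trivial
  obtain ⟨V, hV, hyV, eV⟩ := exists_isAffineOpen_mem_and_subset (x := f (gX x')) (U := g ⁻¹ᵁ W) hsW
  obtain ⟨U, hU, hxU, eU⟩ := exists_isAffineOpen_mem_and_subset (x := gX x') (U := f ⁻¹ᵁ V) hyV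
  obtain ⟨W', hW', hsW', eW'⟩ := exists_isAffineOpen_mem_and_subset (x := g' (f' x')) (U := h ⁻¹ᵁ W) (by
    show h (g' (f' x')) ∈ W
    rw [← hw', ← hw]
    exact hsW)
  have eV0 : V ≤ g ⁻¹ᵁ W := eV
  have eU0 : U ≤ f ⁻¹ᵁ V := eU
  have eUW : U ≤ (f ≫ g) ⁻¹ᵁ W := fun z hz => eV (eU hz)
  have eW0 : W' ≤ h ⁻¹ᵁ W := eW'
  let V' : Y'.Opens := gY ⁻¹ᵁ V ⊓ g' ⁻¹ᵁ W'
  let U' : X'.Opens := gX ⁻¹ᵁ U ⊓ (f' ≫ g') ⁻¹ᵁ W'
  have hV' : IsAffineOpen V' := InjFibre.isAffineOpen_inf_preimage hY hW hV hW' eV0 eW0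
  have hU' : IsAffineOpen U' := InjFibre.isAffineOpen_inf_preimage hX hW hU hW' eUW eW0
  have hxU' : x' ∈ U' := ⟨hxU, hsW'⟩
  have eU' : U' ≤ f' ⁻¹ᵁ V' := fun z hz => ⟨by
    show gY (f' z) ∈ V
    rw [← show f (gX z) = gY (f' z) from congrArg (fun φ : X' ⟶ Y => φ z) w]
    exact eU hz.1, hz.2⟩
  have eV' : V' ≤ g' ⁻¹ᵁ W' := inf_le_right
  have eVY : V' ≤ gY ⁻¹ᵁ V := inf_le_left
  have eUX : U' ≤ gX ⁻¹ᵁ U := inf_le_left
  have hpY := (isIso_pushoutSection_iff hY eW0 eV0 rfl).1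
    (isIso_pushoutSection_of_isAffineOpen hY eW0 eV0 rfl hW hW' hV)
  have hpX := (isIso_pushoutSection_iff hX eW0 eUW rfl).1
    (isIso_pushoutSection_of_isAffineOpen hX eW0 eUW rfl hW hW' hU)
  let P := (Scheme.Modules.pullback gX).obj F
  obtain ⟨E⟩ := Flatn12.nonempty_pullback_sections_equiv gX F hU hU' eUX
  let _ := (g.appLE W V eV0).hom.toAlgebra
  let _ := (f.appLE V U eU0).hom.toAlgebra
  let _ := ((f.appLE V U eU0).hom.comp (g.appLE W V eV0).hom).toAlgebra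
  let _ := (g'.appLE W' V' eV').hom.toAlgebra
  let _ := (f'.appLE V' U' eU').hom.toAlgebra
  let _ := ((f'.appLE V' U' eU').hom.comp (g'.appLE W' V' eV').hom).toAlgebra
  let _ := (h.appLE W W' eW0).hom.toAlgebra
  let _ := (gY.appLE V V' eVY).hom.toAlgebra
  let _ := (gX.appLE U U' eUX).hom.toAlgebra
  let _ : Algebra Γ(S, W) Γ(Y', V') := ((gY.appLE V V' eVY).hom.comp (g.appLE W V eV0).hom).toAlgebra
  let _ : Algebra Γ(Y, V) Γ(X', U') := ((gX.appLE U U' eUX).hom.comp (f.appLE V U eU0).hom).toAlgebra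
  let _ : Algebra Γ(S, W) Γ(X', U') :=
    ((gX.appLE U U' eUX).hom.comp ((f.appLE V U eU0).hom.comp (g.appLE W V eV0).hom)).toAlgebra
  have hfg : (f.appLE V U eU0).hom.comp (g.appLE W V eV0).hom = ((f ≫ g).appLE W U eUW).hom := by
    rw [← CommRingCat.hom_comp, Scheme.Hom.appLE_comp_appLE]
  have hf'g' : (f'.appLE V' U' eU').hom.comp (g'.appLE W' V' eV').hom =
      ((f' ≫ g').appLE W' U' inf_le_right).hom := by
    rw [← CommRingCat.hom_comp, Scheme.Hom.appLE_comp_appLE]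
  have hVU : (gX.appLE U U' eUX).hom.comp (f.appLE V U eU0).hom =
      (f'.appLE V' U' eU').hom.comp (gY.appLE V V' eVY).hom := by
    rw [← CommRingCat.hom_comp, ← CommRingCat.hom_comp, Scheme.Hom.appLE_comp_appLE,
      Scheme.Hom.appLE_comp_appLE]
    simp only [w]
  haveI : IsScalarTower Γ(S, W) Γ(Y, V) Γ(X, U) := .of_algebraMap_eq' rfl
  haveI : IsScalarTower Γ(S', W') Γ(Y', V') Γ(X', U') := .of_algebraMap_eq' rfl
  haveI : IsScalarTower Γ(S, W) Γ(Y, V) Γ(Y', V') := .of_algebraMap_eq fun _ => rfl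
  haveI : IsScalarTower Γ(S, W) Γ(S', W') Γ(Y', V') :=
    .of_algebraMap_eq fun r => ConcreteCategory.congr_hom hpY.w r
  haveI : IsScalarTower Γ(Y, V) Γ(X, U) Γ(X', U') := .of_algebraMap_eq fun _ => rfl
  haveI : IsScalarTower Γ(Y, V) Γ(Y', V') Γ(X', U') := .of_algebraMap_eq fun r => RingHom.congr_fun hVU r
  haveI : IsScalarTower Γ(S, W) Γ(X, U) Γ(X', U') := .of_algebraMap_eq fun _ => rfl
  haveI : IsScalarTower Γ(S, W) Γ(S', W') Γ(X', U') := .of_algebraMap_eq fun r => by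
    show (gX.appLE U U' eUX).hom (((f.appLE V U eU0).hom.comp (g.appLE W V eV0).hom) r) =
      ((f'.appLE V' U' eU').hom.comp (g'.appLE W' V' eV').hom) ((h.appLE W W' eW0).hom r)
    rw [hfg, hf'g']
    exact ConcreteCategory.congr_hom hpX.w r
  haveI pY : Algebra.IsPushout Γ(S, W) Γ(S', W') Γ(Y, V) Γ(Y', V') :=
    Algebra.IsPushout.symm (CommRingCat.isPushout_iff_isPushout.1 hpY)
  haveI pX : Algebra.IsPushout Γ(S, W) Γ(S', W') Γ(X, U) Γ(X', U') := by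
    have hp := hpX
    rw [← Scheme.Hom.appLE_comp_appLE f g W V U eV0 eU0, ← Scheme.Hom.appLE_comp_appLE f' g' W' V' U' eV' eU'] at hp
    exact Algebra.IsPushout.symm (CommRingCat.isPushout_iff_isPushout.1 hp)
  let _ := QcohFlat.overModule f F V U eU0
  haveI : IsScalarTower Γ(Y, V) Γ(X, U) Γ(F, U) := IsScalarTower.of_algebraMap_smul fun _ _ => rfl
  let _ := QcohFlat.overModule f' P V' U' eU'
  haveI : IsScalarTower Γ(Y', V') Γ(X', U') Γ(P, U') := IsScalarTower.of_algebraMap_smul fun _ _ => rfl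
  let _ : Module Γ(X, U) Γ(P, U') := Module.compHom Γ(P, U') (gX.appLE U U' eUX).hom
  let _ : Module Γ(Y, V) Γ(P, U') :=
    Module.compHom Γ(P, U') ((gX.appLE U U' eUX).hom.comp (f.appLE V U eU0).hom)
  haveI : IsScalarTower Γ(X, U) Γ(X', U') Γ(P, U') := IsScalarTower.of_algebraMap_smul fun _ _ => rfl
  haveI : IsScalarTower Γ(Y, V) Γ(X, U) Γ(P, U') := IsScalarTower.of_algebraMap_smul fun _ _ => rfl
  haveI : IsScalarTower Γ(Y, V) Γ(Y', V') Γ(P, U') := IsScalarTower.of_algebraMap_smul fun r m => by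
    show ((f'.appLE V' U' eU').hom.comp (gY.appLE V V' eVY).hom) r • m =
      ((gX.appLE U U' eUX).hom.comp (f.appLE V U eU0).hom) r • m
    rw [hVU]
  let _ : Module Γ(S, W) Γ(F, U) := Module.compHom Γ(F, U) ((f.appLE V U eU0).hom.comp (g.appLE W V eV0).hom)
  haveI : IsScalarTower Γ(S, W) Γ(X, U) Γ(F, U) := IsScalarTower.of_algebraMap_smul fun _ _ => rfl
  haveI : IsScalarTower Γ(S, W) Γ(Y, V) Γ(F, U) := IsScalarTower.of_algebraMap_smul fun _ _ => rfl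
  let _ : Module Γ(S, W) Γ(P, U') :=
    Module.compHom Γ(P, U') ((gX.appLE U U' eUX).hom.comp ((f.appLE V U eU0).hom.comp (g.appLE W V eV0).hom))
  let _ : Module Γ(S', W') Γ(P, U') :=
    Module.compHom Γ(P, U') ((f'.appLE V' U' eU').hom.comp (g'.appLE W' V' eV').hom)
  haveI : IsScalarTower Γ(S, W) Γ(X, U) Γ(P, U') := IsScalarTower.of_algebraMap_smul fun _ _ => rfl
  haveI : IsScalarTower Γ(S, W) Γ(Y, V) Γ(P, U') := IsScalarTower.of_algebraMap_smul fun _ _ => rfl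
  haveI : IsScalarTower Γ(S', W') Γ(X', U') Γ(P, U') := IsScalarTower.of_algebraMap_smul fun _ _ => rfl
  haveI : IsScalarTower Γ(S', W') Γ(Y', V') Γ(P, U') := IsScalarTower.of_algebraMap_smul fun _ _ => rfl
  haveI : IsScalarTower Γ(S, W) Γ(X', U') Γ(P, U') := IsScalarTower.of_algebraMap_smul fun _ _ => rfl
  haveI : IsScalarTower Γ(S, W) Γ(S', W') Γ(P, U') := IsScalarTower.of_algebraMap_smul fun r m => by
    show algebraMap Γ(S', W') Γ(X', U') (algebraMap Γ(S, W) Γ(S', W') r) • m =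
      algebraMap Γ(S, W) Γ(X', U') r • m
    rw [← IsScalarTower.algebraMap_apply]
  haveI : IsScalarTower Γ(S, W) Γ(Y', V') Γ(P, U') := IsScalarTower.of_algebraMap_smul fun r m => by
    show algebraMap Γ(Y', V') Γ(X', U') (algebraMap Γ(S, W) Γ(Y', V') r) • m =
      algebraMap Γ(S, W) Γ(X', U') r • m
    rw [IsScalarTower.algebraMap_apply Γ(S, W) Γ(Y, V) Γ(Y', V'),
      ← IsScalarTower.algebraMap_apply Γ(Y, V) Γ(Y', V') Γ(X', U')]
    rfl
  let μ₀ : Γ(F, U) →ₗ[Γ(X, U)] Γ(P, U') :=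
    (E.toLinearMap.restrictScalars Γ(X, U)) ∘ₗ (TensorProduct.mk Γ(X, U) Γ(X', U') Γ(F, U) 1)
  have hμ₀ : IsBaseChange Γ(X', U') μ₀ := IsBaseChange.of_equiv E fun _ => rfl
  let μ : Γ(F, U) →ₗ[Γ(Y, V)] Γ(P, U') := μ₀.restrictScalars Γ(Y, V)
  have hμA : IsBaseChange Γ(S', W') (μ₀.restrictScalars Γ(S, W)) :=
    (Cons.isBaseChange_iff_of_isPushout (R := Γ(S, W)) (T := Γ(S', W')) (R' := Γ(X, U))
      (T' := Γ(X', U')) μ₀).1 hμ₀
  have hμ : IsBaseChange Γ(Y', V') μ :=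
    (Cons.isBaseChange_iff_of_isPushout (R := Γ(S, W)) (T := Γ(S', W')) (R' := Γ(Y, V))
      (T' := Γ(Y', V')) μ).2 hμA
  have hμC : ∀ (c : Γ(X, U)) m, μ (c • m) = algebraMap Γ(X, U) Γ(X', U') c • μ m := fun c m =>
    (μ₀.map_smul c m).trans (algebraMap_smul _ c _).symm
  have hq : PrimeSpectrum.comap (algebraMap Γ(X, U) Γ(X', U')) (hU'.primeIdealOf ⟨x', hxU'⟩) =
      hU.primeIdealOf ⟨gX x', hxU⟩ := InjFibre.comap_primeIdealOf gX hU hU' eUX hxU'
  have h' := (Cons.isFibFlatAt_iff f' g' P hW' hV' eV' hU' eU' hxU').1 hfib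
  refine (Cons.isFibFlatAt_iff f g F hW hV eV0 hU eU0 hxU).2 ?_
  rw [← hq]
  exact Cons.FibFlat.of_baseChange (A' := Γ(S', W')) (B' := Γ(Y', V')) (C' := Γ(X', U'))
    (M' := Γ(P, U')) (q' := hU'.primeIdealOf ⟨x', hxU'⟩) hμ hμC h'

end Groth.Agent.FlatMorRel
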